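import Groth.Agent.Lib.LCI6.Invariance
import Groth.Agent.Lib.RegExch.Basic
import Mathlib.LinearAlgebra.Matrix.Permutation
import Mathlib.LinearAlgebra.Matrix.Block
import Mathlib.RingTheory.MvPolynomial.Basic

/-!
# A Koszul regular sequence generates a regularly generated ideal in a polynomial extension
-/

universe u

open RingTheory.Sequence MvPolynomial

namespace GrothLib.KoszulCover12

open GrothLib.KoszulColon GrothLib.LCI6

variable {A : Type u} [CommRing A]

/-- A non-empty Koszul regular sequence has no common annihilator. -/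
theorem eq_zero_of_forall_mul_eq_zero {l : List A} (hl : LCI.IsKoszulRegularSeq A l) (hne : l ≠ [])
    (a : A) (ha : ∀ b ∈ l, a * b = 0) : a = 0 := by
  let γ : Module.Dual A A := LinearMap.id
  have hl' : l.map γ = l := by simp [γ]
  let j : ℤ := -(l.length : ℤ)
  have hj : j + l.length = 0 := by simp [j]
  have hj0 : j ≠ 0 := by
    have : 0 < l.length := List.length_pos_of_ne_nil hne
    simp only [j]; omega
  have hkill : ∀ y ∈ Ideal.span {b | b ∈ l.map γ} • (⊤ : Submodule A ((kc γ l).X (j + 1))),
      a • y = 0 := by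
    intro y hy
    refine Submodule.smul_induction_on hy (fun r hr z _ => ?_) (fun y z hy hz => by rw [smul_add, hy, hz, add_zero])
    have : a * r = 0 := by
      rw [hl'] at hr
      induction hr using Submodule.span_induction with
      | mem b hb => exact ha b hb
      | zero => exact mul_zero a
      | add _ _ _ _ h₁ h₂ => rw [mul_add, h₁, h₂, add_zero]
      | smul c b _ h => rw [smul_eq_mul, mul_left_comm, h, mul_zero]
    rw [smul_smul, this, zero_smul]
  have hcyc : ((kc γ l).d j (j + 1)).hom (a • gen γ l j hj) = 0 := by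
    rw [map_smul]
    exact hkill _ (d_mem γ l j (j + 1) rfl _)
  have hex := (isKoszulRegularSeq_iff l).mp hl
  rw [show Koszul.koszul A l = kc γ l from (congrArg _ hl').symm] at hex
  obtain ⟨y, hy⟩ := hex j hj0 _ hcyc
  rw [eq_zero_out γ l (j - 1) (Or.inr (by omega)) y, map_zero] at hy
  obtain ⟨τ, hτ⟩ := exists_coord γ l j hj
  have := congrArg τ hy
  rwa [map_zero, map_smul, hτ, smul_eq_mul, mul_one, eq_comm] at this

/-- The generic combination of a family without common annihilator is a non-zero-divisor. -/
theorem eq_zero_of_mul_generic {σ : Type} [Fintype σ] (c₀ : A) (c : σ → A)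
    (hann : ∀ a, a * c₀ = 0 → (∀ i, a * c i = 0) → a = 0) (h : MvPolynomial σ A)
    (hh : (C c₀ + ∑ i, C (c i) * X i) * h = 0) : h = 0 := by
  classical
  induction hN : ∑ i, h.degreeOf i using Nat.strong_induction_on generalizing h with
  | _ N ih =>
    have hc : ∀ i, C (c i) * h = 0 := by
      intro i
      have htop : ∀ m : σ →₀ ℕ, m i = h.degreeOf i → c i * coeff m h = 0 := by
        intro m hm
        have hout : ∀ m' : σ →₀ ℕ, h.degreeOf i < m' i → coeff m' h = 0 := fun m' hm' => by
          by_contra hne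
          exact absurd (degreeOf_le_iff.mp (le_refl (h.degreeOf i)) m' (mem_support_iff.mpr hne)) (by omega)
        have := congrArg (coeff (m + Finsupp.single i 1)) hh
        simp only [add_mul, Finset.sum_mul, coeff_add, coeff_sum, mul_assoc, coeff_C_mul, coeff_zero] at this
        rw [hout _ (by simp [hm]), mul_zero, zero_add, Finset.sum_eq_single i] at this
        · rwa [coeff_X_mul', if_pos (by simp), add_tsub_cancel_right] at this
        · intro j _ hji
          rw [coeff_X_mul']
          split_ifs
          · rw [hout _ (by simp [hji, hm]), mul_zero]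
          · exact mul_zero _
        · exact fun hi => absurd (Finset.mem_univ i) hi
      by_contra hne
      have hlt : (C (c i) * h).degreeOf i < h.degreeOf i := by
        rcases Nat.eq_zero_or_pos (h.degreeOf i) with h0 | h0
        · refine absurd ?_ hne
          ext m
          rw [coeff_C_mul, coeff_zero]
          by_cases hm : m ∈ h.support
          · exact htop m (by have := degreeOf_le_iff.mp (le_refl (h.degreeOf i)) m hm; omega)
          · rw [notMem_support_iff.mp hm, mul_zero]
        · rw [degreeOf_lt_iff h0]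
          intro m hm
          rw [mem_support_iff, coeff_C_mul] at hm
          have hms : m ∈ h.support := mem_support_iff.mpr fun h' => hm (by rw [h', mul_zero])
          exact lt_of_le_of_ne (degreeOf_le_iff.mp (le_refl (h.degreeOf i)) m hms) fun he => hm (htop m he)
      refine hne (ih _ ?_ _ (by rw [mul_left_comm, hh, mul_zero]) rfl)
      rw [← hN]
      exact Finset.sum_lt_sum (fun j _ => degreeOf_C_mul_le h j (c i)) ⟨i, Finset.mem_univ i, hlt⟩
    have h0 : C c₀ * h = 0 := by
      rw [add_mul, Finset.sum_mul] at hh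
      rwa [Finset.sum_eq_zero fun i _ => by rw [mul_right_comm, hc i, zero_mul], add_zero] at hh
    ext m
    rw [coeff_zero]
    refine hann _ ?_ fun i => ?_
    · rw [mul_comm, ← coeff_C_mul, h0, coeff_zero]
    · rw [mul_comm, ← coeff_C_mul, hc i, coeff_zero]

/-- Weak regularity along a ring isomorphism. -/
theorem isWeaklyRegular_map_equiv {R S : Type u} [CommRing R] [CommRing S] (e : R ≃+* S) (l : List R)
    (h : IsWeaklyRegular R l) : IsWeaklyRegular S (l.map e) := by
  rw [GrothLib.RegSeqLoc.isWeaklyRegular_iff_mem] at h ⊢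
  intro i hi x hx
  rw [List.length_map] at hi
  have hmem : ∀ y, e y ∈ Ideal.ofList ((l.map e).take i) ↔ y ∈ Ideal.ofList (l.take i) := fun y => by
    rw [← List.map_take, show (l.take i).map e = (l.take i).map (e : R →+* S) from rfl,
      ← Ideal.map_ofList]
    exact Ideal.apply_mem_of_equiv_iff (f := e)
  obtain ⟨x, rfl⟩ := e.surjective x
  rw [List.getElem_map, ← map_mul, hmem] at hx
  exact (hmem x).mpr (h i hi x hx)

/-- The generic combination of a Koszul regular sequence is regular. -/
theorem isSMulRegular_generic {n : ℕ} (f : Fin (n + 1) → A)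
    (hf : LCI.IsKoszulRegularSeq A (List.ofFn f)) :
    IsSMulRegular (MvPolynomial (Fin n) A)
      (C (f 0) + ∑ i : Fin n, C (f i.succ) * X i : MvPolynomial (Fin n) A) :=
  IsSMulRegular.of_right_eq_zero_of_smul fun h (hh : (C (f 0) + ∑ i : Fin n, C (f i.succ) * X i :
      MvPolynomial (Fin n) A) • h = 0) => by
    have hne : List.ofFn f ≠ [] := by simp
    have hann : ∀ a : A, a * f 0 = 0 → (∀ i : Fin n, a * f i.succ = 0) → a = 0 := fun a h0 hi =>
      eq_zero_of_forall_mul_eq_zero hf hne a fun b hb => by
        obtain ⟨i, rfl⟩ := List.mem_ofFn.mp hb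
        refine Fin.cases ?_ ?_ i
        · exact h0
        · exact hi
    rw [smul_eq_mul] at hh
    exact eq_zero_of_mul_generic (σ := Fin n) (f 0) (fun i => f i.succ) hann h hh

set_option maxHeartbeats 1000000 in
/-- Moving the generic combination to the end of the sequence keeps it Koszul regular. -/
theorem isKoszulRegularSeq_tail_append {n : ℕ} (f : Fin (n + 1) → A)
    (hf : LCI.IsKoszulRegularSeq A (List.ofFn f)) :
    LCI.IsKoszulRegularSeq (MvPolynomial (Fin n) A)
      ((List.ofFn fun i : Fin n => (C (f i.succ) : MvPolynomial (Fin n) A)) ++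
        [C (f 0) + ∑ i : Fin n, C (f i.succ) * X i]) := by
  let cf : Fin (n + 1) → MvPolynomial (Fin n) A := fun i => C (f i)
  have hcf : LCI.IsKoszulRegularSeq (MvPolynomial (Fin n) A) (List.ofFn cf) := by
    have := GrothLib.KoszulColon.isKoszulRegularSeq_map (C : A →+* MvPolynomial (Fin n) A)
      (RingHom.flat_algebraMap_iff.mpr (inferInstance : Module.Flat A (MvPolynomial (Fin n) A))) _ hf
    rwa [List.map_ofFn] at this
  let M : Matrix (Fin (n + 1)) (Fin (n + 1)) (MvPolynomial (Fin n) A) := Matrix.of fun i j =>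
    Fin.cases (Fin.cases 1 (fun k => X k) j) (fun i' => if j = i'.succ then 1 else 0) i
  have hM : M.det = 1 := by
    rw [Matrix.det_of_isUpperTriangular (fun i j hij => ?_)]
    · exact Finset.prod_eq_one fun i _ => by refine Fin.cases ?_ ?_ i <;> simp [M]
    · revert hij
      refine Fin.cases ?_ ?_ i
      · intro hij; exact absurd hij (Fin.not_lt_zero j)
      · intro i' hij
        simp only [M, Matrix.of_apply, Fin.cases_succ]
        rw [if_neg (ne_of_lt (show j < i'.succ from hij))]
  have hMv : M.mulVec cf = Fin.cons (C (f 0) + ∑ i : Fin n, C (f i.succ) * X i)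
      fun i => C (f i.succ) := by
    funext i
    refine Fin.cases ?_ ?_ i
    · simp [M, Matrix.mulVec, dotProduct, Fin.sum_univ_succ, cf, mul_comm]
    · intro i'
      simp [M, Matrix.mulVec, dotProduct, cf, ite_mul]
  have h1 := isKoszulRegularSeq_mulVec M (by rw [hM]; exact isUnit_one) cf hcf
  rw [hMv] at h1
  have h2 := isKoszulRegularSeq_mulVec ((finRotate (n + 1)).permMatrix (MvPolynomial (Fin n) A))
    (by rw [Matrix.det_permutation]; exact (Units.isUnit _).map (Int.castRingHom _)) _ h1
  rw [Matrix.permMatrix_mulVec, List.ofFn_succ'] at h2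
  simpa only [Function.comp_apply, finRotate_apply, Fin.coeSucc_eq_succ, Fin.cons_succ,
    Fin.last_add_one, Fin.cons_zero, List.concat_eq_append] using h2

/-- Lifting a weakly regular sequence through the quotient by a regular element. -/
theorem exists_lift {P : Type u} [CommRing P] (g : P) (hg : IsSMulRegular P g) (J : Ideal P) (m : ℕ)
    (l : List (MvPolynomial (Fin m) (P ⧸ Ideal.span {g})))
    (hl : IsWeaklyRegular (MvPolynomial (Fin m) (P ⧸ Ideal.span {g})) l)
    (hlI : Ideal.ofList l = (J.map (Ideal.Quotient.mk (Ideal.span {g}))).map C) :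
    ∃ L : List (MvPolynomial (Fin m) P), IsWeaklyRegular (MvPolynomial (Fin m) P) L ∧
      Ideal.ofList L = (Ideal.span {g} ⊔ J).map C := by
  let φ : P →+* P ⧸ Ideal.span {g} := Ideal.Quotient.mk _
  let Φ : MvPolynomial (Fin m) P →+* MvPolynomial (Fin m) (P ⧸ Ideal.span {g}) := MvPolynomial.map φ
  have hΦ : Function.Surjective Φ := MvPolynomial.map_surjective φ Ideal.Quotient.mk_surjective
  have hker : RingHom.ker Φ = Ideal.span {(C g : MvPolynomial (Fin m) P)} := by
    show RingHom.ker (MvPolynomial.map φ) = _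
    rw [MvPolynomial.ker_map, Ideal.mk_ker, Ideal.map_span, Set.image_singleton]
  obtain ⟨L, rfl⟩ := List.map_surjective_iff.mpr hΦ l
  refine ⟨C g :: L, GrothLib.RegExch.isWeaklyRegular_cons ?_ ?_, ?_⟩
  · refine IsSMulRegular.of_right_eq_zero_of_smul fun x hx => ?_
    ext1 k
    refine hg.right_eq_zero_of_smul ?_
    rw [smul_eq_mul, ← coeff_C_mul, ← smul_eq_mul, hx, coeff_zero]
  · let q : MvPolynomial (Fin m) P ⧸ Ideal.span {(C g : MvPolynomial (Fin m) P)} ≃+*
        MvPolynomial (Fin m) (P ⧸ Ideal.span {g}) :=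
      (Ideal.quotEquivOfEq hker.symm).trans (RingHom.quotientKerEquivOfSurjective hΦ)
    have := isWeaklyRegular_map_equiv (R := MvPolynomial (Fin m) (P ⧸ Ideal.span {g}))
      (S := MvPolynomial (Fin m) P ⧸ Ideal.span {(C g : MvPolynomial (Fin m) P)}) q.symm _ hl
    rw [List.map_map] at this
    have heq : List.map (q.symm ∘ Φ) L =
        List.map (Ideal.Quotient.mk (Ideal.span {(C g : MvPolynomial (Fin m) P)})) L :=
      List.map_congr_left fun x _ => q.symm_apply_eq.mpr rfl
    rw [heq] at this
    exact this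
  · have hJ : Ideal.ofList L ⊔ Ideal.span {(C g : MvPolynomial (Fin m) P)} =
        J.map C ⊔ Ideal.span {(C g : MvPolynomial (Fin m) P)} := by
      rw [← hker, RingHom.ker, ← Ideal.comap_map_of_surjective Φ hΦ,
        ← Ideal.comap_map_of_surjective Φ hΦ, Ideal.map_ofList, hlI, Ideal.map_map, Ideal.map_map,
        MvPolynomial.map_comp_C]
    rw [Ideal.ofList_cons, sup_comm, hJ, Ideal.map_sup, Ideal.map_span _ {g}, Set.image_singleton,
      sup_comm]

/-- The generic combination and the tail generate the ideal of the sequence. -/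
theorem span_generic {n : ℕ} (f : Fin (n + 1) → A) :
    (Ideal.span (Set.range f)).map C =
      Ideal.span {(C (f 0) + ∑ i : Fin n, C (f i.succ) * X i : MvPolynomial (Fin n) A)} ⊔
        Ideal.span (Set.range fun i : Fin n => (C (f i.succ) : MvPolynomial (Fin n) A)) := by
  have hsum : ∀ J : Ideal (MvPolynomial (Fin n) A), (∀ i : Fin n, C (f i.succ) ∈ J) →
      (∑ i : Fin n, C (f i.succ) * X i : MvPolynomial (Fin n) A) ∈ J := fun J hJ =>
    Ideal.sum_mem _ fun i _ => Ideal.mul_mem_right _ _ (hJ i)
  rw [Ideal.map_span, ← Set.range_comp]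
  refine le_antisymm (Ideal.span_le.mpr ?_) (sup_le
    ((Ideal.span_singleton_le_iff_mem _).mpr ?_) (Ideal.span_le.mpr ?_))
  · rintro _ ⟨i, rfl⟩
    refine Fin.cases ?_ ?_ i
    · show (C (f 0) : MvPolynomial (Fin n) A) ∈ _
      have h := sub_mem (Ideal.mem_sup_left
          (T := Ideal.span (Set.range fun i : Fin n => (C (f i.succ) : MvPolynomial (Fin n) A)))
          (Ideal.mem_span_singleton_self
            (C (f 0) + ∑ i : Fin n, C (f i.succ) * X i : MvPolynomial (Fin n) A)))
        (Ideal.mem_sup_right (hsum _ fun i => Ideal.subset_span ⟨i, rfl⟩))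
      rwa [add_sub_cancel_right] at h
    · exact fun i' => Ideal.mem_sup_right (Ideal.subset_span ⟨i', rfl⟩)
  · exact add_mem (Ideal.subset_span ⟨0, rfl⟩) (hsum _ fun i => Ideal.subset_span ⟨i.succ, rfl⟩)
  · rintro _ ⟨i, rfl⟩
    exact Ideal.subset_span ⟨i.succ, rfl⟩

set_option maxHeartbeats 2000000 in
/-- Merging two polynomial extensions. -/
theorem exists_merge (m n : ℕ) (L : List (MvPolynomial (Fin m) (MvPolynomial (Fin n) A)))
    (hL : IsWeaklyRegular (MvPolynomial (Fin m) (MvPolynomial (Fin n) A)) L) (I : Ideal A)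
    (hI : Ideal.ofList L = (I.map C).map C) :
    ∃ (k : ℕ) (l : List (MvPolynomial (Fin k) A)), IsWeaklyRegular (MvPolynomial (Fin k) A) l ∧
      Ideal.ofList l = I.map C := by
  obtain ⟨e, hC⟩ : ∃ e : MvPolynomial (Fin m) (MvPolynomial (Fin n) A) ≃+*
      MvPolynomial (Fin (m + n)) A, ∀ a : A, e (C (C a)) = C a :=
    ⟨((sumAlgEquiv A (Fin m) (Fin n)).symm.trans (renameEquiv A finSumFinEquiv)).toRingEquiv,
      fun a => ((sumAlgEquiv A (Fin m) (Fin n)).symm.trans (renameEquiv A finSumFinEquiv)).commutes a⟩
  refine ⟨m + n, L.map e, isWeaklyRegular_map_equiv e L hL, ?_⟩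
  have h1 : Ideal.ofList (L.map e) = (Ideal.ofList L).map
      (e : MvPolynomial (Fin m) (MvPolynomial (Fin n) A) →+* MvPolynomial (Fin (m + n)) A) := by
    rw [Ideal.map_ofList]
    rfl
  rw [h1, hI, Ideal.map_map, Ideal.map_map]
  congr 1
  exact RingHom.ext fun a => hC a

set_option maxHeartbeats 1000000 in
/-- After a polynomial extension the ideal of a Koszul regular sequence is generated by a weakly regular one. -/
theorem exists_weaklyRegular : ∀ (n : ℕ) (A : Type u) [CommRing A] (f : Fin n → A),
    LCI.IsKoszulRegularSeq A (List.ofFn f) →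
    ∃ (m : ℕ) (l : List (MvPolynomial (Fin m) A)), IsWeaklyRegular (MvPolynomial (Fin m) A) l ∧
      Ideal.ofList l = (Ideal.span (Set.range f)).map C := by
  intro n
  induction n with
  | zero =>
    intro A _ f _
    exact ⟨0, [], IsWeaklyRegular.nil _ _, by simp [Ideal.map_bot]⟩
  | succ n ih =>
    intro A _ f hf
    have hg := isSMulRegular_generic f hf
    have h2 := isKoszulRegularSeq_tail_append f hf
    have hIdeal := span_generic f
    revert hg h2 hIdeal
    generalize (C (f 0) + ∑ i : Fin n, C (f i.succ) * X i : MvPolynomial (Fin n) A) = g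
    intro hg h2 hIdeal
    have hsing : LCI.IsKoszulRegularSeq (MvPolynomial (Fin n) A) [g] :=
      GrothLib.KoszulColon.isKoszulRegularSeq_of_isWeaklyRegular [g]
        ((isWeaklyRegular_singleton_iff (MvPolynomial (Fin n) A) g).mpr hg)
    have h3 := (isKoszulRegularSeq_append_iff (Ideal.Quotient.mk (Ideal.span {g}))
      Ideal.Quotient.mk_surjective [g] _ hsing
      (by rw [Ideal.mk_ker, Ideal.ofList_singleton])).mp h2
    rw [List.map_ofFn] at h3
    obtain ⟨m, l, hl, hlI⟩ := ih _ _ h3
    obtain ⟨L, hL, hLI⟩ := exists_lift g hg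
      (Ideal.span (Set.range fun i : Fin n => (C (f i.succ) : MvPolynomial (Fin n) A))) m l hl
      (by rw [hlI, Ideal.map_span (Ideal.Quotient.mk _), ← Set.range_comp])
    exact exists_merge m n L hL (Ideal.span (Set.range f)) (by rw [hLI, ← hIdeal])

end GrothLib.KoszulCover12
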