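import Groth.Agent.Lib.KoszulCover12.Algebra
import Groth.Agent.Lib.ValPoint.Basic
import Groth.Agent.Lib.FSchSys.Ker
import Groth.Prelude.Def_RegImm
import Mathlib.AlgebraicGeometry.Morphisms.Smooth

/-!
# Regularity of the base change of a closed immersion in a chart
-/

universe u

open CategoryTheory CategoryTheory.Limits AlgebraicGeometry RingTheory.Sequence

namespace GrothLib.KoszulCover12

/-- If the pulled back ideal is generated by a weakly regular list in a chart, the base change is regular there. -/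
theorem isRegularImmersionAt_snd {Z X X' : Scheme.{u}} (i : Z ⟶ X) [IsClosedImmersion i] (g : X' ⟶ X)
    (U : X.affineOpens) {R : CommRingCat.{u}} (φ : Γ(X, U.1) ⟶ R) (k : Spec R ⟶ X') [IsOpenImmersion k]
    (hk : k ≫ g = Spec.map φ ≫ U.2.fromSpec) (l : List R) (hl : IsWeaklyRegular R l)
    (hI : Ideal.ofList l = (i.ker.ideal U).map φ.hom) (z' : (pullback i g : Scheme.{u}))
    (hz : pullback.snd i g z' ∈ Set.range k) :
    RegImm.IsRegularImmersionAt RegImm.Kind.regular (pullback.snd i g) z' := by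
  let i' := pullback.snd i g
  let T : (Spec R).affineOpens := ⟨⊤, isAffineOpen_top _⟩
  let W : X'.affineOpens := ⟨k ''ᵁ T.1, T.2.image_of_isOpenImmersion k⟩
  let E : R ≅ Γ(X', W.1) := (Scheme.ΓSpecIso R).symm ≪≫ (k.appIso T.1).symm
  have hker : i'.ker = i.ker.comap g :=
    GrothLib.FSchSys.ker_eq_comap_of_isPullback (IsPullback.of_hasPullback i g).flip
  have h1 : (i'.ker.ideal W).comap (k.appIso T.1).inv.hom =
      (Ideal.ofList l).map (Scheme.ΓSpecIso R).inv.hom := by
    rw [hI, ← GrothLib.ValPoint.ideal_comap_specMap_fromSpec i.ker U φ, ← hk,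
      Scheme.IdealSheafData.comap_comp, ← hker, Scheme.IdealSheafData.ideal_comap_of_isOpenImmersion]
  have h2 : RingHom.ker (i'.app W.1).hom = Ideal.ofList (l.map E.commRingCatIsoToRingEquiv) := by
    rw [← Scheme.Hom.ker_apply]
    have hb := ConcreteCategory.bijective_of_isIso (k.appIso T.1).inv
    have := congrArg (Ideal.map (k.appIso T.1).inv.hom) h1
    rw [Ideal.map_comap_of_surjective _ hb.2, Ideal.map_ofList, Ideal.map_ofList, List.map_map] at this
    exact this
  have hmem : i' z' ∈ W.1 := by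
    obtain ⟨y, hy⟩ := hz
    exact ⟨y, trivial, hy⟩
  refine ⟨W, hmem, IsZariskiLocalAtTarget.restrict (P := @IsClosedImmersion) (inferInstance : IsClosedImmersion (pullback.snd i g)) _,
    l.map E.commRingCatIsoToRingEquiv, ⟨isWeaklyRegular_map_equiv _ l hl, ?_⟩, h2⟩
  have : Nonempty (i' ⁻¹ᵁ W.1).toScheme := ⟨⟨z', hmem⟩⟩
  rw [smul_eq_mul, Ideal.mul_top]
  intro htop
  refine RingHom.ker_ne_top (i'.app W.1).hom ?_
  rw [h2]
  exact htop.symm

/-- A polynomial ring over the ring of an affine chart is smooth over the scheme. -/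
theorem smooth_chart {X : Scheme.{u}} (U : X.affineOpens) (m : ℕ) :
    Smooth (Spec.map (CommRingCat.ofHom
      (MvPolynomial.C : Γ(X, U.1) →+* MvPolynomial (Fin m) Γ(X, U.1))) ≫ U.2.fromSpec) := by
  have hA : Algebra.Smooth Γ(X, U.1) (MvPolynomial (Fin m) Γ(X, U.1)) := ⟨inferInstance, inferInstance⟩
  have : Smooth (Spec.map (CommRingCat.ofHom
      (MvPolynomial.C : Γ(X, U.1) →+* MvPolynomial (Fin m) Γ(X, U.1)))) := by
    rw [HasRingHomProperty.Spec_iff (P := @Smooth)]
    exact RingHom.smooth_algebraMap.mpr hA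
  infer_instance

/-- The chart covers the affine open. -/
theorem exists_chart_eq {X : Scheme.{u}} (U : X.affineOpens) (m : ℕ) {x : X} (hx : x ∈ U.1) :
    ∃ y, (Spec.map (CommRingCat.ofHom
      (MvPolynomial.C : Γ(X, U.1) →+* MvPolynomial (Fin m) Γ(X, U.1))) ≫ U.2.fromSpec) y = x := by
  obtain ⟨y, hy⟩ : x ∈ Set.range U.2.fromSpec := by rw [U.2.range_fromSpec]; exact hx
  refine ⟨Spec.map (CommRingCat.ofHom (MvPolynomial.constantCoeff :
    MvPolynomial (Fin m) Γ(X, U.1) →+* Γ(X, U.1))) y, ?_⟩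
  rw [← Scheme.Hom.comp_apply, ← Spec.map_comp_assoc, ← CommRingCat.ofHom_comp,
    show (MvPolynomial.constantCoeff : MvPolynomial (Fin m) Γ(X, U.1) →+* _).comp
      MvPolynomial.C = RingHom.id _ from RingHom.ext fun a => MvPolynomial.constantCoeff_C _ a,
    CommRingCat.ofHom_id, Spec.map_id, Category.id_comp]
  exact hy

end GrothLib.KoszulCover12
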